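import Groth.Agent.L15.TwUnibranch.Top
import Groth.Agent.L25.TwConst.Components
import Groth.Agent.L23.ThickSplit

/-!
Twisted constant schemes over irreducible geometrically unibranch bases split into finite étale pieces.
-/

set_option autoImplicit false
set_option linter.style.haveILetI false
set_option backward.isDefEq.respectTransparency.types false
universe u

open CategoryTheory CategoryTheory.Limits AlgebraicGeometry TopologicalSpace

namespace Groth.L15.TwUnibranch

variable {S : Scheme.{u}} [IrreducibleSpace S]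

/-- The closure of a point of the generic fibre is finite over the base. -/
theorem isFinite_piece (hS : ∀ s : S, CAlg2.IsGeomUnibranch (S.presheaf.stalk s)) (X : Over S)
    (hX : TwC.IsTwConst TwC.Topology.etale X) (U : X.left.Opens) (l : X.left)
    (hl : X.hom l = genericPoint S) (hU : (U : Set X.left) = closure {l}) :
    IsFinite (U.ι ≫ X.hom) := by
  haveI := Groth.L25.TwConst.etale_of_fppf (Groth.L25.TwConst.fppf_of_etale hX)
  refine Groth.L25.TwConst.of_fppf_local (P := @IsFinite) (U.ι ≫ X.hom) fun s => ?_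
  obtain ⟨T, f, hf, ⟨t, ht⟩, I, ⟨e⟩⟩ := hX s
  obtain ⟨C, hC⟩ := Groth.L25.TwConst.exists_split_of_iso f e
  obtain ⟨V, hV, hsV, -⟩ := exists_isAffineOpen_mem_and_subset (X := S) (x := s) (U := ⊤) trivial
  haveI : IsAffine V.toScheme := hV
  have hηV : genericPoint S ∈ V := ((genericPoint_spec S).specializes (Set.mem_univ s)).mem_open V.2 hsV
  obtain ⟨m, hm, hmt⟩ := exists_over_generic f t
  have hmo := isOpen_closure f hS hm
  obtain ⟨W, hW, htW, hWle⟩ := exists_isAffineOpen_mem_and_subset (X := T) (x := t)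
    (U := ⟨closure {m}, hmo⟩ ⊓ f ⁻¹ᵁ V) ⟨specializes_iff_mem_closure.1 hmt, show f t ∈ V from ht ▸ hsV⟩
  haveI : IsAffine W.toScheme := hW
  have hmW : m ∈ W := hmt.mem_open W.2 htW
  let η : W.toScheme := ⟨m, hmW⟩
  have hη : ∀ w : W.toScheme, η ⤳ w := fun w =>
    W.ι.isOpenEmbedding.toIsInducing.specializes_iff.1 (specializes_iff_mem_closure.2 (hWle w.2).1)
  let f' := W.ι ≫ f
  haveI : Etale f' := inferInstance
  refine ⟨W.toScheme, f', inferInstance, inferInstance, ⟨⟨t, htW⟩, ht⟩, ?_⟩
  let k : pullback X.hom f' ⟶ pullback X.hom f :=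
    pullback.lift (pullback.fst X.hom f') (pullback.snd X.hom f' ≫ W.ι)
      (by rw [pullback.condition, Category.assoc])
  have sqk : IsPullback k (pullback.snd X.hom f') (pullback.snd X.hom f) W.ι := by
    refine IsPullback.of_right ?_ (pullback.lift_snd _ _ _) (IsPullback.of_hasPullback X.hom f)
    rw [pullback.lift_fst]
    exact IsPullback.of_hasPullback X.hom f'
  have h' := hC.baseChange sqk
  let q := pullback.fst X.hom f'
  let p := pullback.snd X.hom f'
  haveI : Etale q := MorphismProperty.pullback_fst X.hom f' ‹_›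
  -- finitely many sheets meet the piece
  obtain ⟨N, hN, hlN, hNV⟩ := exists_isAffineOpen_mem_and_subset (X := X.left) (x := l)
    (U := X.hom ⁻¹ᵁ V) (show X.hom l ∈ V from hl ▸ hηV)
  haveI : IsAffine N.toScheme := hN
  have hfinite : (q ⁻¹' {l}).Finite := by
    let hn : N.toScheme ⟶ V.toScheme := X.hom.resLE V N hNV
    let hw : W.toScheme ⟶ V.toScheme := f.resLE V W fun w hw => (hWle hw).2
    have hn' : hn ≫ V.ι = N.ι ≫ X.hom := Scheme.Hom.resLE_comp_ι _ _
    have hw' : hw ≫ V.ι = f' := Scheme.Hom.resLE_comp_ι _ _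
    have sq : IsPullback (q ∣_ N) ((q ⁻¹ᵁ N).ι ≫ p) (N.ι ≫ X.hom) f' :=
      (isPullback_morphismRestrict q N).paste_vert (IsPullback.of_hasPullback X.hom f')
    let v : pullback hn hw ⟶ (q ⁻¹ᵁ N).toScheme := sq.lift (pullback.fst hn hw) (pullback.snd hn hw)
      (by rw [← hn', ← hw', ← Category.assoc, ← Category.assoc, pullback.condition])
    let w : (q ⁻¹ᵁ N).toScheme ⟶ pullback hn hw := pullback.lift (q ∣_ N) ((q ⁻¹ᵁ N).ι ≫ p)
      (by rw [← cancel_mono V.ι, Category.assoc, Category.assoc, hn', hw']; exact sq.w)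
    have hwv : w ≫ v = 𝟙 _ := sq.hom_ext
      (by rw [Category.assoc, Category.id_comp, sq.lift_fst]; exact pullback.lift_fst _ _ _)
      (by rw [Category.assoc, Category.id_comp, sq.lift_snd]; exact pullback.lift_snd _ _ _)
    haveI : Surjective v := ⟨fun z => ⟨w z, congrArg (fun φ : (q ⁻¹ᵁ N).toScheme ⟶ (q ⁻¹ᵁ N).toScheme => φ z) hwv⟩⟩
    haveI : CompactSpace (q ⁻¹ᵁ N).toScheme := v.surjective.compactSpace v.continuous
    haveI : QuasiCompact (q ∣_ N) := quasiCompact_of_compactSpace _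
    haveI := Groth.L15.TwHens.locallyQuasiFinite_of_etale (q ∣_ N)
    refine (((q ∣_ N).finite_preimage_singleton (⟨l, hlN⟩ : N)).image (q ⁻¹ᵁ N).ι).subset fun y hy => ?_
    have hy' : y ∈ q ⁻¹ᵁ N := show q y ∈ N from (show q y = l from hy) ▸ hlN
    exact ⟨⟨y, hy'⟩, Subtype.ext ((congrArg (fun φ : (q ⁻¹ᵁ N).toScheme ⟶ X.left => φ ⟨y, hy'⟩)
      (morphismRestrict_ι q N)).trans hy), rfl⟩
  let I' := {i : I // q (h'.sec i η) ∈ U}
  have hmem : ∀ i : I', q (h'.sec i.1 η) = l := fun i => by
    have hxl : X.hom (q (h'.sec i.1 η)) = genericPoint S := by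
      calc X.hom (q (h'.sec i.1 η)) = f' (p (h'.sec i.1 η)) :=
            congrArg (fun φ : pullback X.hom f' ⟶ S => φ (h'.sec i.1 η)) pullback.condition
        _ = genericPoint S := by rw [h'.p_sec]; exact hm
    refine eq_of_mem_closure X.hom hS hxl hl (subset_closure rfl) ?_
    rw [← hU]
    exact i.2
  haveI : Finite I' := by
    haveI := hfinite.to_subtype
    refine Finite.of_injective (fun i : I' => (⟨h'.sec i.1 η, hmem i⟩ : q ⁻¹' {l})) fun i j hij => ?_
    have := congrArg h'.label (congrArg Subtype.val hij)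
    rw [h'.label_sec, h'.label_sec] at this
    exact Subtype.ext this
  let Q := q ⁻¹ᵁ U
  have hQc : IsClosed (Q : Set ↑(pullback X.hom f')) :=
    (show IsClosed (U : Set X.left) from hU ▸ isClosed_closure).preimage q.continuous
  have hsheet : ∀ i y, y ∈ k ⁻¹ᵁ C i → (y ∈ Q ↔ h'.sec i η ∈ Q) := by
    intro i y hy
    have hs : h'.sec i η ⤳ y := by
      rw [← h'.sec_p hy]
      exact (hη _).map (h'.sec i).continuous
    exact ⟨fun h => hs.mem_open Q.2 h, fun h => hs.mem_closed hQc h⟩
  have hsplit : Groth.L25.TwConst.IsSplit (Q.ι ≫ p) (fun i : I' => Q.ι ⁻¹ᵁ (k ⁻¹ᵁ C i.1)) := by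
    refine ⟨fun y => ?_, fun y i j hi hj => Subtype.ext (h'.disj y.1 _ _ hi hj), fun i => ?_⟩
    · exact ⟨⟨h'.label y.1, (hsheet _ _ (h'.mem_label y.1)).1 y.2⟩, h'.mem_label y.1⟩
    · haveI := h'.iso i.1
      have hrange : Set.range (k ⁻¹ᵁ C i.1).ι ⊆ Set.range Q.ι := by
        rw [Scheme.Opens.range_ι, Scheme.Opens.range_ι]
        exact fun y hy => (hsheet _ _ hy).2 i.2
      haveI : IsIso (Q.ι ∣_ (k ⁻¹ᵁ C i.1)) := by
        haveI : Surjective (Q.ι ∣_ (k ⁻¹ᵁ C i.1)) := ⟨fun y => by
          obtain ⟨a, ha⟩ := hrange ⟨y, rfl⟩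
          refine ⟨⟨a, show Q.ι a ∈ k ⁻¹ᵁ C i.1 from ha ▸ y.2⟩, Subtype.ext ?_⟩
          exact (congrArg (fun φ : _ ⟶ pullback X.hom f' => φ _) (morphismRestrict_ι Q.ι (k ⁻¹ᵁ C i.1))).trans ha⟩
        exact (isIso_iff_isOpenImmersion_and_surjective _).2 ⟨inferInstance, inferInstance⟩
      rw [← Category.assoc, ← morphismRestrict_ι, Category.assoc]
      infer_instance
  have hfinQ : IsFinite (Q.ι ≫ p) := Groth.L25.TwConst.isFinite_of_isSplit_finite hsplit
  have sqU : IsPullback (q ∣_ U) (Q.ι ≫ p) (U.ι ≫ X.hom) f' :=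
    (isPullback_morphismRestrict q U).paste_vert (IsPullback.of_hasPullback X.hom f')
  rw [← sqU.isoPullback_hom_snd, MorphismProperty.cancel_left_of_respectsIso @IsFinite] at hfinQ
  exact hfinQ

/-- A point with values in the residue field of the base forces trivial residue extension. -/
theorem isIso_residueFieldMap {U S : Scheme.{u}} (g : U ⟶ S) {s : S}
    (τ : Spec (S.residueField s) ⟶ U) (hτ : τ ≫ g = S.fromSpecResidueField s) :
    IsIso (g.residueFieldMap (τ (IsLocalRing.closedPoint _))) := by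
  obtain ⟨x, hx⟩ : ∃ x, τ (IsLocalRing.closedPoint _) = x := ⟨_, rfl⟩
  obtain ⟨π, hπ⟩ : ∃ π : U.residueField x ⟶ S.residueField s, Spec.map π ≫ U.fromSpecResidueField x = τ := by
    subst hx
    exact ⟨_, Scheme.descResidueField_stalkClosedPointTo_fromSpecResidueField (S.residueField s) U τ⟩
  rw [hx]
  have hgx : g x = s := by
    rw [← hx]
    exact (congrArg (fun φ : Spec (S.residueField s) ⟶ S => φ (IsLocalRing.closedPoint _)) hτ).trans
      (Scheme.fromSpecResidueField_apply s _)
  rw [← hπ] at hτ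
  clear hx hπ τ
  subst hgx
  rw [Category.assoc, ← Scheme.Hom.SpecMap_residueFieldMap_fromSpecResidueField, ← Category.assoc,
    ← Spec.map_comp] at hτ
  have h2 : Spec.map (g.residueFieldMap x ≫ π) = 𝟙 _ := by
    rw [← cancel_mono (S.fromSpecResidueField (g x)), hτ, Category.id_comp]
  rw [← Spec.map_id] at h2
  have h3 := Spec.map_injective h2
  refine (ConcreteCategory.isIso_iff_bijective _).2 ⟨(g.residueFieldMap x).hom.injective, fun z => ?_⟩
  exact ⟨π z, π.hom.injective (congrArg (fun φ : S.residueField (g x) ⟶ S.residueField (g x) => φ (π z)) h3)⟩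

/-- A finite étale piece with a rational point at its generic point is the base. -/
theorem isIso_of_generic {U : Scheme.{u}} (g : U ⟶ S) [IsFinite g] [Etale g] [Surjective g] (l : U)
    (huniq : ∀ l', g l' = genericPoint S → l' = l) [IsIso (g.residueFieldMap l)] : IsIso g := by
  haveI : IsPreimmersion (U.fromSpecResidueField l ≫ g) := by
    rw [← Scheme.Hom.SpecMap_residueFieldMap_fromSpecResidueField]
    infer_instance
  haveI : Surjective (pullback.diagonal g) := ⟨fun z => by
    let σ := pullback.fst g g ≫ g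
    haveI : Etale (pullback.fst g g) := MorphismProperty.pullback_fst g g ‹_›
    haveI : Etale σ := inferInstance
    obtain ⟨z₀, hz₀, hzz⟩ := exists_over_generic σ z
    refine (pullback.diagonal g).isClosedEmbedding.isClosed_range.stableUnderSpecialization hzz ?_
    let P := pullback g g
    let γ : Spec (P.residueField z₀) ⟶ P := P.fromSpecResidueField z₀
    have hrange : ∀ a : P ⟶ U, a ≫ g = σ → ∀ y, (γ ≫ a) y = l := fun a ha y =>
      huniq _ ((congrArg (fun φ : P ⟶ S => φ (γ y)) ha).trans (by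
        rw [show γ y = z₀ from Scheme.fromSpecResidueField_apply _ y]; exact hz₀))
    have key : ∀ a : Spec (P.residueField z₀) ⟶ U, (∀ y, a y = l) →
        ∃ c : Spec (P.residueField z₀) ⟶ Spec (U.residueField l), c ≫ U.fromSpecResidueField l = a := by
      intro a ha
      obtain ⟨⟨x, φ⟩, rfl⟩ := (Scheme.SpecToEquivOfField (P.residueField z₀) U).symm.surjective a
      obtain rfl : x = l := by
        refine Eq.trans ?_ (ha (IsLocalRing.closedPoint _))
        exact (Scheme.fromSpecResidueField_apply _ _).symm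
      exact ⟨Spec.map φ, rfl⟩
    obtain ⟨c₁, hc₁⟩ := key (γ ≫ pullback.fst g g) (hrange _ rfl)
    obtain ⟨c₂, hc₂⟩ := key (γ ≫ pullback.snd g g) (hrange _ pullback.condition.symm)
    have hc : c₁ = c₂ := by
      rw [← cancel_mono (U.fromSpecResidueField l ≫ g), ← Category.assoc, hc₁, ← Category.assoc, hc₂,
        Category.assoc, Category.assoc, pullback.condition]
    have hγ : γ = (γ ≫ pullback.fst g g) ≫ pullback.diagonal g := by
      apply pullback.hom_ext
      · simp
      · rw [Category.assoc _ (pullback.diagonal g), pullback.diagonal_snd, Category.comp_id, ← hc₁, hc, hc₂]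
    refine ⟨(γ ≫ pullback.fst g g) (IsLocalRing.closedPoint _), ?_⟩
    exact (congrArg (fun φ : Spec (P.residueField z₀) ⟶ P => φ (IsLocalRing.closedPoint _)) hγ).symm.trans
      (Scheme.fromSpecResidueField_apply _ _)⟩
  haveI : UniversallyInjective g := (UniversallyInjective.iff_diagonal g).2 ‹_›
  haveI := Groth.L23.isOpenImmersion_of_etale_univInjective g
  exact (isIso_iff_isOpenImmersion_and_surjective g).2 ⟨inferInstance, inferInstance⟩

theorem structure_of_isTwConst (hS : ∀ s : S, CAlg2.IsGeomUnibranch (S.presheaf.stalk s))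
    (X : Over S) (hX : TwC.IsTwConst TwC.Topology.etale X) :
    (∀ x : X.left, ∃! l : X.left, X.hom.base l = genericPoint S ∧ x ∈ closure ({l} : Set X.left)) ∧
    (∀ l : X.left, X.hom.base l = genericPoint S →
      ∃ U : X.left.Opens, (U : Set X.left) = closure ({l} : Set X.left) ∧ IsClosed (U : Set X.left) ∧
        IsFinite (U.ι ≫ X.hom) ∧ Etale (U.ι ≫ X.hom) ∧ Surjective (U.ι ≫ X.hom)) ∧
    (∀ σ₁ σ₂ : S ⟶ X.left, σ₁ ≫ X.hom = 𝟙 S → σ₂ ≫ X.hom = 𝟙 S →
      S.fromSpecResidueField (genericPoint S) ≫ σ₁ = S.fromSpecResidueField (genericPoint S) ≫ σ₂ → σ₁ = σ₂) ∧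
    (∀ τ : Spec (S.residueField (genericPoint S)) ⟶ X.left, τ ≫ X.hom = S.fromSpecResidueField (genericPoint S) →
      ∃ σ : S ⟶ X.left, σ ≫ X.hom = 𝟙 S ∧ S.fromSpecResidueField (genericPoint S) ≫ σ = τ) := by
  haveI := Groth.L25.TwConst.etale_of_fppf (Groth.L25.TwConst.fppf_of_etale hX)
  have hpiece : ∀ l : X.left, X.hom l = genericPoint S →
      ∃ U : X.left.Opens, (U : Set X.left) = closure ({l} : Set X.left) ∧ IsClosed (U : Set X.left) ∧
        IsFinite (U.ι ≫ X.hom) ∧ Etale (U.ι ≫ X.hom) ∧ Surjective (U.ι ≫ X.hom) := by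
    intro l hl
    let U : X.left.Opens := ⟨_, isOpen_closure X.hom hS hl⟩
    haveI hfin : IsFinite (U.ι ≫ X.hom) := isFinite_piece hS X hX U l hl rfl
    refine ⟨U, rfl, isClosed_closure, hfin, inferInstance, ⟨fun s => ?_⟩⟩
    exact ((genericPoint_spec S).specializes (Set.mem_univ s)).mem_closed
      (U.ι ≫ X.hom).isClosedMap.isClosed_range ⟨⟨l, subset_closure rfl⟩, hl⟩
  have main : ∀ τ : Spec (S.residueField (genericPoint S)) ⟶ X.left,
      τ ≫ X.hom = S.fromSpecResidueField (genericPoint S) →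
      ∃ σ : S ⟶ X.left, (σ ≫ X.hom = 𝟙 S ∧ S.fromSpecResidueField (genericPoint S) ≫ σ = τ) ∧
        ∀ σ' : S ⟶ X.left, σ' ≫ X.hom = 𝟙 S → S.fromSpecResidueField (genericPoint S) ≫ σ' = τ → σ' = σ := by
    intro τ hτ
    let o : Spec (S.residueField (genericPoint S)) := IsLocalRing.closedPoint _
    have hfr : S.fromSpecResidueField (genericPoint S) o = genericPoint S := Scheme.fromSpecResidueField_apply _ _
    have hl : X.hom (τ o) = genericPoint S :=
      (congrArg (fun φ : Spec (S.residueField (genericPoint S)) ⟶ S => φ o) hτ).trans hfr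
    obtain ⟨U, hU, -, _, _, _⟩ := hpiece _ hl
    have hτU : Set.range τ ⊆ Set.range U.ι := by
      rintro _ ⟨y, rfl⟩
      rw [Scheme.Opens.range_ι, hU, show τ y = τ o from congrArg τ (Subsingleton.elim y o)]
      exact subset_closure rfl
    let τ' := IsOpenImmersion.lift U.ι τ hτU
    have hτ' : τ' ≫ U.ι = τ := IsOpenImmersion.lift_fac _ _ _
    let g := U.ι ≫ X.hom
    have hg : τ' ≫ g = S.fromSpecResidueField (genericPoint S) := by rw [← Category.assoc, hτ', hτ]
    have huniq : ∀ l' : U.toScheme, g l' = genericPoint S → l' = τ' o := fun l' hl' => by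
      refine U.ι.isOpenEmbedding.injective ((eq_of_mem_closure X.hom hS hl' hl (subset_closure rfl) ?_).trans
        (congrArg (fun φ : Spec (S.residueField (genericPoint S)) ⟶ X.left => φ o) hτ').symm)
      rw [← hU]
      exact l'.2
    haveI : IsIso (g.residueFieldMap (τ' o)) := isIso_residueFieldMap g τ' hg
    haveI := isIso_of_generic g (τ' o) huniq
    refine ⟨inv g ≫ U.ι, ⟨by rw [Category.assoc, IsIso.inv_hom_id], ?_⟩, fun σ' hσ' hστ => ?_⟩
    · rw [← hg, Category.assoc, IsIso.hom_inv_id_assoc, hτ']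
    · have hr : Set.range σ' ⊆ Set.range U.ι := by
        rintro _ ⟨s, rfl⟩
        rw [Scheme.Opens.range_ι, hU]
        have h1 : σ' (genericPoint S) = τ o := by
          refine (congrArg σ' hfr).symm.trans ?_
          exact congrArg (fun φ : Spec (S.residueField (genericPoint S)) ⟶ X.left => φ o) hστ
        exact specializes_iff_mem_closure.1 (h1 ▸ ((genericPoint_spec S).specializes (Set.mem_univ s)).map σ'.continuous)
      have h1 : IsOpenImmersion.lift U.ι σ' hr = inv g := by
        apply IsIso.eq_inv_of_inv_hom_id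
        rw [← Category.assoc, IsOpenImmersion.lift_fac, hσ']
      rw [← h1, IsOpenImmersion.lift_fac]
  refine ⟨fun x => ?_, hpiece, fun σ₁ σ₂ h₁ h₂ h => ?_, fun τ hτ => ?_⟩
  · obtain ⟨l, hl, hlx⟩ := exists_over_generic X.hom x
    exact ⟨l, ⟨hl, specializes_iff_mem_closure.1 hlx⟩, fun l' hl' =>
      eq_of_mem_closure X.hom hS hl'.1 hl hl'.2 (specializes_iff_mem_closure.1 hlx)⟩
  · obtain ⟨σ, -, hu⟩ := main _ (show (S.fromSpecResidueField (genericPoint S) ≫ σ₁) ≫ X.hom = _ by
      rw [Category.assoc, h₁, Category.comp_id])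
    rw [hu σ₁ h₁ rfl, hu σ₂ h₂ h.symm]
  · obtain ⟨σ, hσ, -⟩ := main τ hτ
    exact ⟨σ, hσ⟩

end Groth.L15.TwUnibranch
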