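import Groth.Agent.L05.Henselization.FlatQFComponents
import Groth.Agent.L25.TwConst.Components
import Groth.Agent.L23.ThickSplit
import Groth.Agent.L15.TwHens.Main

/-!
Schemes étale over an irreducible geometrically unibranch base: the closures of the generic points are open.
-/

set_option autoImplicit false
set_option linter.style.haveILetI false
universe u

open CategoryTheory CategoryTheory.Limits AlgebraicGeometry TopologicalSpace

namespace Groth.L15.TwUnibranch

variable {U S : Scheme.{u}} [IrreducibleSpace S] (g : U ⟶ S) [Etale g]

theorem exists_over_generic (x : U) : ∃ l : U, g l = genericPoint S ∧ l ⤳ x := by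
  obtain ⟨l, hl, hgl⟩ := Flat.generalizingMap g ((genericPoint_spec S).specializes (Set.mem_univ (g x)))
  exact ⟨l, hgl, hl⟩

theorem closure_mem_irreducibleComponents {l : U} (hl : g l = genericPoint S) :
    closure ({l} : Set U) ∈ irreducibleComponents U := by
  haveI := Groth.L15.TwHens.locallyQuasiFinite_of_etale g
  refine ⟨isIrreducible_singleton.closure, fun Z hZ hle => ?_⟩
  have hz : IsGenericPoint hZ.genericPoint (closure Z) := hZ.isGenericPoint_genericPoint_closure
  have hzl : hZ.genericPoint ⤳ l := hz.specializes (subset_closure (hle (subset_closure rfl)))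
  have hgz : g hZ.genericPoint = g l :=
    ((hzl.map g.continuous).antisymm (by
      rw [hl]; exact (genericPoint_spec S).specializes (Set.mem_univ _))).eq
  have hzeq := Groth.L05.Henselization.FlatQF.eq_of_specializes g hzl hgz
  intro z hz'
  rw [← specializes_iff_mem_closure, ← hzeq]
  exact hz.specializes (subset_closure hz')

variable (hS : ∀ s : S, CAlg2.IsGeomUnibranch (S.presheaf.stalk s))
include hS

theorem closure_eq {l x : U} (hl : g l = genericPoint S) (hx : x ∈ closure ({l} : Set U)) :
    closure ({l} : Set U) = irreducibleComponent x :=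
  Groth.L25.TwConst.unique_irreducibleComponent hS g x _ (closure_mem_irreducibleComponents g hl) hx

theorem eq_of_mem_closure {l l' x : U} (hl : g l = genericPoint S) (hl' : g l' = genericPoint S)
    (hx : x ∈ closure ({l} : Set U)) (hx' : x ∈ closure ({l'} : Set U)) : l = l' :=
  ((isGenericPoint_closure (x := l)).eq ((closure_eq g hS hl hx).trans (closure_eq g hS hl' hx').symm ▸
    isGenericPoint_closure (x := l')))

/-- The closures are open: the other components form a closed set. -/
theorem isOpen_closure {l : U} (hl : g l = genericPoint S) : IsOpen (closure ({l} : Set U)) := by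
  haveI := Groth.L15.TwHens.locallyQuasiFinite_of_etale g
  have hY : LocallyFinite (fun Z : ↥(irreducibleComponents S) => (Z : Set S)) := by
    have h1 : irreducibleComponents S = {Set.univ} := by
      ext Z
      refine ⟨fun hZ => ?_, fun hZ => hZ ▸ ⟨IrreducibleSpace.isIrreducible_univ S, fun W _ _ => Set.subset_univ W⟩⟩
      exact Set.eq_univ_of_univ_subset (hZ.2 (IrreducibleSpace.isIrreducible_univ S) (Set.subset_univ Z))
    haveI : Finite ↥(irreducibleComponents S) := by rw [h1]; infer_instance
    exact locallyFinite_of_finite _
  have hfin := Groth.L05.Henselization.FlatQF.locallyFinite g hY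
  have hcl := (hfin.comp_injective (Subtype.val_injective (p := fun Z : ↥(irreducibleComponents U) =>
    (Z : Set U) ≠ closure {l}))).isClosed_iUnion fun Z => isClosed_of_mem_irreducibleComponents _ Z.1.2
  convert hcl.isOpen_compl using 1
  ext z
  simp only [Set.mem_compl_iff, Set.mem_iUnion, Function.comp_apply, not_exists]
  refine ⟨fun hz Z hzZ => Z.2 ((Groth.L25.TwConst.unique_irreducibleComponent hS g z _ Z.1.2 hzZ).trans
    (closure_eq g hS hl hz).symm), fun hz => ?_⟩
  obtain ⟨l', hl', hl'z⟩ := exists_over_generic g z
  by_contra hne
  refine hz ⟨⟨closure {l'}, closure_mem_irreducibleComponents g hl'⟩, fun h => hne ?_⟩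
    (specializes_iff_mem_closure.1 hl'z)
  exact h ▸ specializes_iff_mem_closure.1 hl'z

end Groth.L15.TwUnibranch
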